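/-
Norms of a p-group acting on an abelian group are p-th powers.

* `prod_eq_pow` : product over a fixed-point-free invariant finite set;
* `exists_fixed` : an element times a p-th power is fixed by the whole group.
-/
import Cfsg.Agent.Lib.PGroup.Basic

set_option autoImplicit false

namespace Cfsg.Agent.WCCenter

variable {G : Type*} [Group G] [Finite G] {p : ℕ} [Fact p.Prime]
variable {A : Type*} [CommGroup A] [MulDistribMulAction G A]

/-- The vanishing hypothesis for the maximal subgroups of `J`. -/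
def Vanish (p : ℕ) (A : Type*) [CommGroup A] [MulDistribMulAction G A] (J : Subgroup G) : Prop :=
  ∀ M : Subgroup G, M ≤ J → (∀ j ∈ J, ∀ m ∈ M, j * m * j⁻¹ ∈ M) → M.relIndex J = p →
    (∀ j ∈ J, (∀ w : A, j • w = w) → j ∈ M) →
    ∃ a ∈ J, a ∉ M ∧ ∀ w : A, (∀ m ∈ M, m • w = w) →
      a • w = w ∨ (p ≠ 2 ∧ ∃ c : A, a • w = w * c ∧ a • c = c ∧ c ^ p = 1)

/-- The norm from a maximal subgroup. -/
theorem prod_range_pow {a : G} {w : A}
    (h : a • w = w ∨ (p ≠ 2 ∧ ∃ c : A, a • w = w * c ∧ a • c = c ∧ c ^ p = 1)) :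
    ∏ i ∈ Finset.range p, a ^ i • w = w ^ p := by
  rcases h with h | ⟨hp, c, hwc, hcc, hcp⟩
  · have hfix : ∀ i : ℕ, a ^ i • w = w := by
      intro i
      induction i with
      | zero => rw [pow_zero, one_smul]
      | succ i ih => rw [pow_succ, mul_smul, h, ih]
    simp [hfix]
  · have hpow : ∀ i : ℕ, a ^ i • w = w * c ^ i := by
      intro i
      induction i with
      | zero => rw [pow_zero, one_smul, pow_zero, mul_one]
      | succ i ih =>
        rw [pow_succ', mul_smul, ih, smul_mul', smul_pow', hwc, hcc, pow_succ', mul_assoc]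
    simp only [hpow, Finset.prod_mul_distrib, Finset.prod_const, Finset.card_range,
      Finset.prod_pow_eq_pow_sum, Finset.sum_range_id]
    obtain ⟨k, hk⟩ := (Fact.out : p.Prime).odd_of_ne_two hp
    have he : p * (p - 1) / 2 = p * k := by
      rw [show p - 1 = 2 * k by omega, mul_left_comm, Nat.mul_div_cancel_left _ (by norm_num)]
    rw [Finset.prod_pow_eq_pow_sum, Finset.sum_range_id, he, pow_mul, hcp, one_pow, mul_one]

/-- Products over fixed point free invariant sets are `p`-th powers. -/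
theorem prod_eq_pow {J : Subgroup G} (hJ : IsPGroup p J) (hv : Vanish p A J) :
    ∀ X : Finset A, (∀ j ∈ J, ∀ q ∈ X, j • q ∈ X) → (∀ q ∈ X, ∃ j ∈ J, j • q ≠ q) →
      ∃ u : A, ∏ q ∈ X, q = u ^ p := by
  classical
  intro X
  induction X using Finset.strongInduction with
  | H X IH =>
  intro hinv hmov
  rcases X.eq_empty_or_nonempty with rfl | ⟨q, hq⟩
  · exact ⟨1, by simp⟩
  -- the orbit of `q`
  obtain ⟨j₀, hj₀, hj₀q⟩ := hmov q hq
  have hR : (MulAction.stabilizer G q).subgroupOf J ≠ ⊤ := fun h => hj₀q (by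
    have : (⟨j₀, hj₀⟩ : J) ∈ (MulAction.stabilizer G q).subgroupOf J := h ▸ Subgroup.mem_top _
    exact this)
  obtain ⟨M₀, hM₀, hRM⟩ := (IsCoatomic.eq_top_or_exists_le_coatom
    ((MulAction.stabilizer G q).subgroupOf J)).resolve_left hR
  haveI := PGroup.isCoatom_normal hJ hM₀
  have hidx := PGroup.isCoatom_index hJ hM₀
  set M := M₀.map J.subtype with hM
  have hMJ : M ≤ J := Subgroup.map_subtype_le M₀
  have hMmem : ∀ {g : G} (hg : g ∈ J), g ∈ M ↔ (⟨g, hg⟩ : J) ∈ M₀ := by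
    intro g hg
    refine ⟨?_, fun h => ⟨_, h, rfl⟩⟩
    rintro ⟨m, hm, he⟩
    rwa [show (⟨g, hg⟩ : J) = m from Subtype.ext he.symm]
  have hMn : ∀ j ∈ J, ∀ m ∈ M, j * m * j⁻¹ ∈ M := by
    rintro j hj _ ⟨m, hm, rfl⟩
    exact ⟨_, (inferInstance : M₀.Normal).conj_mem m hm ⟨j, hj⟩, rfl⟩
  have hrel : M.relIndex J = p := by
    rw [Subgroup.relIndex, Subgroup.subgroupOf, hM,
      Subgroup.comap_map_eq_self_of_injective J.subtype_injective, hidx]
  have hstab : ∀ j ∈ J, j • q = q → j ∈ M := fun j hj h => (hMmem hj).2 (hRM (show (j : G) • q = q from h))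
  obtain ⟨a, haJ, haM, hav⟩ := hv M hMJ hMn hrel (fun j hj hall => hstab j hj (hall q))
  -- powers of `a` represent the cosets
  set a' : J ⧸ M₀ := QuotientGroup.mk ⟨a, haJ⟩ with ha'
  have ha1 : a' ≠ 1 := fun h => haM ((hMmem haJ).2 ((QuotientGroup.eq_one_iff _).1 h))
  have hcardQ : Nat.card (J ⧸ M₀) = p := by rw [← Subgroup.index_eq_card, hidx]
  have hord : orderOf a' = p := orderOf_eq_prime (by rw [← hcardQ]; exact pow_card_eq_one') ha1
  have hrep : ∀ j ∈ J, ∃ i < p, ∃ m ∈ M, j = a ^ i * m := by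
    intro j hj
    haveI : Finite (J ⧸ M₀) := inferInstance
    have hmem : (QuotientGroup.mk ⟨j, hj⟩ : J ⧸ M₀) ∈ Subgroup.zpowers a' := by
      rw [(Subgroup.eq_top_of_card_eq _ (by rw [Nat.card_zpowers, hord, hcardQ]) :
        Subgroup.zpowers a' = ⊤)]
      exact Subgroup.mem_top _
    obtain ⟨i, hi, he⟩ := mem_zpowers_iff_mem_range_orderOf.1 hmem |> Finset.mem_image.1
    rw [Finset.mem_range, hord] at hi
    refine ⟨i, hi, (a ^ i)⁻¹ * j, ?_, by group⟩
    refine (hMmem (mul_mem (inv_mem (pow_mem haJ i)) hj)).2 ((QuotientGroup.eq_one_iff _).1 ?_)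
    rw [show (⟨(a ^ i)⁻¹ * j, mul_mem (inv_mem (pow_mem haJ i)) hj⟩ : J) = (⟨a, haJ⟩ ^ i)⁻¹ * ⟨j, hj⟩
      from Subtype.ext rfl]
    rw [QuotientGroup.mk_mul, QuotientGroup.mk_inv, QuotientGroup.mk_pow, ← ha', inv_mul_eq_one]
    exact he
  letI := Fintype.ofFinite G
  set O : Finset A := (Finset.univ.filter (fun g : G => g ∈ J)).image (fun g => g • q) with hO
  set OM : Finset A := (Finset.univ.filter (fun g : G => g ∈ M)).image (fun g => g • q) with hOM
  have hmemO : ∀ {r : A}, r ∈ O ↔ ∃ g ∈ J, g • q = r := by intro r; simp [hO]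
  have hmemOM : ∀ {r : A}, r ∈ OM ↔ ∃ g ∈ M, g • q = r := by intro r; simp [hOM]
  set w := ∏ r ∈ OM, r with hw
  have hwfix : ∀ m ∈ M, m • w = w := by
    intro m hm
    rw [hw, Finset.smul_prod']
    refine Finset.prod_bij' (fun r _ => m • r) (fun r _ => m⁻¹ • r) ?_ ?_ ?_ ?_ ?_
    · intro r hr
      obtain ⟨g, hg, rfl⟩ := hmemOM.1 hr
      exact hmemOM.2 ⟨m * g, mul_mem hm hg, mul_smul m g q⟩
    · intro r hr
      obtain ⟨g, hg, rfl⟩ := hmemOM.1 hr
      exact hmemOM.2 ⟨m⁻¹ * g, mul_mem (inv_mem hm) hg, mul_smul m⁻¹ g q⟩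
    · intro r _; simp
    · intro r _; simp
    · intro r _; rfl
  have horb : ∏ r ∈ O, r = w ^ p := by
    rw [← prod_range_pow (hav w hwfix)]
    simp only [hw, Finset.smul_prod']
    rw [← Finset.prod_product']
    refine (Finset.prod_bij (fun x _ => a ^ x.1 • x.2) ?_ ?_ ?_ ?_).symm
    · rintro ⟨i, r⟩ hx
      obtain ⟨g, hg, rfl⟩ := hmemOM.1 (Finset.mem_product.1 hx).2
      exact hmemO.2 ⟨a ^ i * g, mul_mem (pow_mem haJ i) (hMJ hg), mul_smul _ _ q⟩
    · rintro ⟨i, r⟩ hx ⟨i', r'⟩ hx' he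
      obtain ⟨g, hg, rfl⟩ := hmemOM.1 (Finset.mem_product.1 hx).2
      obtain ⟨g', hg', rfl⟩ := hmemOM.1 (Finset.mem_product.1 hx').2
      simp only at he
      have hii : i = i' := by
        have h1 : (g⁻¹ * ((a ^ i)⁻¹ * a ^ i') * g') • q = q := by
          rw [mul_smul, mul_smul, mul_smul, ← he, inv_smul_smul, inv_smul_smul]
        have h2 := hstab _ (mul_mem (mul_mem (inv_mem (hMJ hg))
          (mul_mem (inv_mem (pow_mem haJ i)) (pow_mem haJ i'))) (hMJ hg')) h1
        have h3 : (a ^ i)⁻¹ * a ^ i' ∈ M := by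
          have := mul_mem (mul_mem hg h2) (inv_mem hg')
          simpa [mul_assoc] using this
        have h4 : a' ^ i = a' ^ i' := by
          rw [ha', ← QuotientGroup.mk_pow, ← QuotientGroup.mk_pow]
          exact QuotientGroup.eq.2 ((hMmem (mul_mem (inv_mem (pow_mem haJ i)) (pow_mem haJ i'))).1 h3)
        exact pow_injOn_Iio_orderOf (by rw [hord]; exact Finset.mem_range.1 (Finset.mem_product.1 hx).1)
          (by rw [hord]; exact Finset.mem_range.1 (Finset.mem_product.1 hx').1) h4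
      subst hii
      rw [MulAction.injective (a ^ i) he]
    · intro r hr
      obtain ⟨g, hg, rfl⟩ := hmemO.1 hr
      obtain ⟨i, hi, m, hm, rfl⟩ := hrep g hg
      exact ⟨(i, m • q), Finset.mem_product.2 ⟨Finset.mem_range.2 hi, hmemOM.2 ⟨m, hm, rfl⟩⟩,
        (mul_smul _ _ q).symm⟩
    · intros; rfl
  have hOX : O ⊆ X := fun r hr => by
    obtain ⟨g, hg, rfl⟩ := hmemO.1 hr
    exact hinv g hg q hq
  have hlt : X \ O ⊂ X := Finset.sdiff_ssubset hOX ⟨q, hmemO.2 ⟨1, one_mem J, one_smul _ q⟩⟩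
  obtain ⟨u, hu⟩ := IH (X \ O) hlt (fun j hj r hr => by
      rw [Finset.mem_sdiff] at hr ⊢
      refine ⟨hinv j hj r hr.1, fun h => hr.2 ?_⟩
      obtain ⟨g, hg, hge⟩ := hmemO.1 h
      exact hmemO.2 ⟨j⁻¹ * g, mul_mem (inv_mem hj) hg, by rw [mul_smul, hge, inv_smul_smul]⟩)
    (fun r hr => hmov r (Finset.mem_sdiff.1 hr).1)
  exact ⟨u * w, by rw [← Finset.prod_sdiff hOX, hu, horb, mul_pow]⟩

/-- An element fixed by `J` alone among its conjugates is fixed modulo a `p`-th power. -/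
theorem exists_fixed {J : Subgroup G} (hJ : IsPGroup p J) (hv : Vanish p A J) (x : A)
    (hJx : ∀ j ∈ J, j • x = x) (hstab : ∀ g : G, (∀ j ∈ J, j • (g • x) = g • x) → g • x = x) :
    ∃ u : A, ∀ g : G, g • (x * u ^ p) = x * u ^ p := by
  classical
  letI := Fintype.ofFinite G
  set X : Finset A := Finset.univ.image (fun g : G => g • x) with hX
  have hxX : x ∈ X := Finset.mem_image.2 ⟨1, Finset.mem_univ _, one_smul _ x⟩
  have hinv : ∀ g : G, ∀ r ∈ X, g • r ∈ X := by
    intro g r hr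
    obtain ⟨h, -, rfl⟩ := Finset.mem_image.1 hr
    exact Finset.mem_image.2 ⟨g * h, Finset.mem_univ _, mul_smul g h x⟩
  obtain ⟨u, hu⟩ := prod_eq_pow hJ hv (X.erase x)
    (fun j hj r hr => by
      rw [Finset.mem_erase] at hr ⊢
      refine ⟨fun h => hr.1 ?_, hinv j r hr.2⟩
      rw [← inv_smul_smul j r, h, ← hJx j hj, inv_smul_smul, hJx j hj])
    (fun r hr => by
      obtain ⟨g, -, rfl⟩ := Finset.mem_image.1 (Finset.mem_erase.1 hr).2
      by_contra hcon
      push Not at hcon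
      exact (Finset.mem_erase.1 hr).1 (hstab g hcon))
  refine ⟨u, fun g => ?_⟩
  rw [← hu, Finset.mul_prod_erase X (fun r => r) hxX, Finset.smul_prod']
  exact Finset.prod_bij' (fun r _ => g • r) (fun r _ => g⁻¹ • r) (fun r hr => hinv g r hr)
    (fun r hr => hinv g⁻¹ r hr) (fun r _ => inv_smul_smul g r) (fun r _ => smul_inv_smul g r)
    (fun r _ => rfl)

end Cfsg.Agent.WCCenter
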