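/-
An element of order two inducing a transvection on a normal abelian 2-subgroup gives a section `S₄`,
unless it lies in a normal 2-subgroup of the induced group.
-/
import Cfsg.Agent.Lib.Involution.BaerSuzuki
import Cfsg.Agent.Lib.PLocal.Basic
import Cfsg.Agent.S2759

set_option autoImplicit false

namespace Cfsg.Agent.WCCenter

variable {G : Type*} [Group G] [Finite G]

theorem conj_pow_of_fixed {z v i : G} (hz : z * v * z⁻¹ = v * i) (hi : z * i * z⁻¹ = i) (n : ℕ) :
    z ^ n * v * (z ^ n)⁻¹ = v * i ^ n := by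
  induction n with
  | zero => simp
  | succ n ih =>
    have hin : z * i ^ n * z⁻¹ = i ^ n := by rw [← conj_pow, hi]
    calc z ^ (n + 1) * v * (z ^ (n + 1))⁻¹ = z * (z ^ n * v * (z ^ n)⁻¹) * z⁻¹ := by
          rw [pow_succ']; group
      _ = (z * v * z⁻¹) * (z * i ^ n * z⁻¹) := by rw [ih]; group
      _ = v * i ^ (n + 1) := by rw [hz, hin, pow_succ', mul_assoc]

theorem involves_S4_of_transvection {V : Subgroup G} [V.Normal] (hV : IsPGroup 2 V) {a : G}
    (hak : ∃ k : ℕ, orderOf a = 2 ^ k) (haC : a ∉ Subgroup.centralizer (V : Set G))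
    (ha2 : a ^ 2 ∈ Subgroup.centralizer (V : Set G))
    (hidx : Nat.card V ≤ 2 * Nat.card (V ⊓ Subgroup.centralizer ({a} : Set G) : Subgroup G))
    (hVab : ∀ u ∈ V, ∀ v ∈ V, u * v = v * u)
    (hO : ∀ N : Subgroup G, N.Normal → Subgroup.centralizer (V : Set G) ≤ N →
      IsPGroup 2 (N.map (QuotientGroup.mk' (Subgroup.centralizer (V : Set G)))) → a ∉ N) :
    Cfsg.Involves (Equiv.Perm (Fin 4)) G := by
  classical
  set C := Subgroup.centralizer (V : Set G) with hC
  haveI : C.Normal := inferInstance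
  set q := QuotientGroup.mk' C with hq
  set t := q a with ht
  have ht1 : t ≠ 1 := fun h => haC ((QuotientGroup.eq_one_iff _).1 h)
  have htt : t * t = 1 := by
    rw [← sq, ht, ← map_pow]; exact (QuotientGroup.eq_one_iff _).2 ha2
  have hto : orderOf t = 2 := orderOf_eq_prime (by rw [sq, htt]) ht1
  obtain ⟨h, hh1, hodd, hinv⟩ := Involution.exists_inverted_odd hto (fun N hN hN2 htN =>
    hO (N.comap q) (hN.comap q)
      (fun c hc => by
        show q c ∈ N
        rw [show q c = 1 from (QuotientGroup.eq_one_iff c).2 hc]; exact one_mem N)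
      (by rwa [Subgroup.map_comap_eq_self_of_surjective (QuotientGroup.mk'_surjective C)]) htN)
  obtain ⟨m, hm⟩ := hodd
  obtain ⟨s, hs⟩ := QuotientGroup.mk'_surjective C (h ^ (m + 1))
  have hsq : q s * q s = h := by
    rw [hq, hs, ← pow_add, show m + 1 + (m + 1) = orderOf h + 1 by omega, pow_succ, pow_orderOf_eq_one,
      one_mul]
  have hts : (q s)⁻¹ * t = t * q s := by
    have : t * q s * t⁻¹ = (q s)⁻¹ := by rw [hq, hs, ← conj_pow, hinv, inv_pow]
    rw [← this]; group
  set a' := s⁻¹ * a * s with ha'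
  have hqy : q (a⁻¹ * a') = h := by
    rw [map_mul, map_inv, ha', map_mul, map_mul, map_inv, ← ht, hts, mul_assoc t, hsq, inv_mul_cancel_left]
  set I1 := V ⊓ Subgroup.centralizer ({a} : Set G) with hI1
  set I2 := V ⊓ Subgroup.centralizer ({a'} : Set G) with hI2
  have hcard2 : Nat.card I2 = Nat.card I1 := by
    have hmap : I1.map (MulAut.conj s⁻¹).toMonoidHom = I2 := by
      ext x
      constructor
      · rintro ⟨y, hy, rfl⟩
        refine ⟨(inferInstance : V.Normal).conj_mem _ hy.1 s⁻¹, Subgroup.mem_centralizer_singleton_iff.2 ?_⟩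
        have := Subgroup.mem_centralizer_singleton_iff.1 hy.2
        show s⁻¹ * y * s⁻¹⁻¹ * a' = a' * (s⁻¹ * y * s⁻¹⁻¹)
        calc s⁻¹ * y * s⁻¹⁻¹ * a' = s⁻¹ * (y * a) * s := by rw [ha']; group
          _ = s⁻¹ * (a * y) * s := by rw [this]
          _ = a' * (s⁻¹ * y * s⁻¹⁻¹) := by rw [ha']; group
      · intro hx
        refine ⟨s * x * s⁻¹, ⟨(inferInstance : V.Normal).conj_mem _ hx.1 s,
          Subgroup.mem_centralizer_singleton_iff.2 ?_⟩, by
            show s⁻¹ * (s * x * s⁻¹) * s⁻¹⁻¹ = x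
            group⟩
        have := Subgroup.mem_centralizer_singleton_iff.1 hx.2
        calc s * x * s⁻¹ * a = s * (x * a') * s⁻¹ := by rw [ha']; group
          _ = s * (a' * x) * s⁻¹ := by rw [this]
          _ = a * (s * x * s⁻¹) := by rw [ha']; group
    rw [← hmap]
    exact (Nat.card_congr (I1.equivMapOfInjective _ (MulAut.conj s⁻¹).injective).toEquiv).symm
  set I := I1 ⊓ I2 with hI
  have hI1V : I1 ≤ V := inf_le_left
  have hIV : I ≤ V := inf_le_left.trans hI1V
  have h4 : Nat.card V ≤ 4 * Nat.card I := by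
    have hn : I2 ≤ Subgroup.normalizer (I1 : Set G) := by
      refine le_trans (fun x hx => ?_) (Subgroup.centralizer_le_normalizer _)
      exact Subgroup.mem_centralizer_iff.2 fun y hy => hVab y hy.1 x hx.1
    have h1 := PLocal.card_sup_mul_card_inf hn
    have h2 : Nat.card (I1 ⊔ I2 : Subgroup G) ≤ Nat.card V :=
      Subgroup.card_le_of_le (sup_le hI1V inf_le_left)
    have h3 : Nat.card V * Nat.card V ≤ (4 * Nat.card I) * Nat.card V := by
      calc Nat.card V * Nat.card V ≤ (2 * Nat.card I1) * (2 * Nat.card I1) := Nat.mul_le_mul hidx hidx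
        _ = 4 * (Nat.card I1 * Nat.card I2) := by rw [hcard2]; ring
        _ = 4 * (Nat.card (I1 ⊔ I2 : Subgroup G) * Nat.card I) := by rw [h1]
        _ ≤ 4 * (Nat.card V * Nat.card I) := Nat.mul_le_mul le_rfl (Nat.mul_le_mul h2 le_rfl)
        _ = (4 * Nat.card I) * Nat.card V := by ring
    exact Nat.le_of_mul_le_mul_right h3 Nat.card_pos
  set y₀ := a⁻¹ * a' with hy₀
  have hfixI : ∀ i ∈ I, y₀ * i * y₀⁻¹ = i := by
    intro i hi
    have e1 := Subgroup.mem_centralizer_singleton_iff.1 hi.1.2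
    have e2 := Subgroup.mem_centralizer_singleton_iff.1 hi.2.2
    calc y₀ * i * y₀⁻¹ = a⁻¹ * (a' * i) * a'⁻¹ * a := by rw [hy₀]; group
      _ = a⁻¹ * (i * a') * a'⁻¹ * a := by rw [e2]
      _ = a⁻¹ * (i * a) := by group
      _ = i := by rw [e1]; group
  -- the permutation of the cosets
  set I' := I.subgroupOf V with hI'
  haveI : I'.Normal := ⟨fun n hn g => by
    have : g * n * g⁻¹ = n := Subtype.ext (by
      show (g : G) * n * (g : G)⁻¹ = n
      rw [hVab g g.2 n n.2, mul_inv_cancel_right])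
    rwa [this]⟩
  set φ : MulAut ↥V := MulAut.conjNormal y₀
  have hφI : I'.map φ.toMonoidHom = I' := by
    ext x
    constructor
    · rintro ⟨i, hi, rfl⟩
      show y₀ * (i : G) * y₀⁻¹ ∈ I
      rw [hfixI i hi]; exact hi
    · intro hx
      exact ⟨x, hx, Subtype.ext (hfixI x hx)⟩
  set e : Equiv.Perm (↥V ⧸ I') := (QuotientGroup.congr I' I' φ hφI).toEquiv with he
  have hpow : ∀ (n : ℕ) (v : ↥V), (e ^ n) (QuotientGroup.mk v) = QuotientGroup.mk ((φ ^ n) v) := by
    intro n
    induction n with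
    | zero => intro v; rfl
    | succ n ih =>
      intro v
      rw [pow_succ', pow_succ', Equiv.Perm.mul_apply, ih]
      rfl
  have hQ4 : Nat.card (↥V ⧸ I') ≤ 4 := by
    have h1 := I'.card_mul_index
    rw [Nat.card_congr (Subgroup.subgroupOfEquivOfLe hIV).toEquiv, Subgroup.index_eq_card] at h1
    have : Nat.card I * Nat.card (↥V ⧸ I') ≤ Nat.card I * 4 := by rw [h1]; omega
    exact Nat.le_of_mul_le_mul_left this Nat.card_pos
  have he24 : e ^ 24 = 1 := by
    letI := Fintype.ofFinite (↥V ⧸ I')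
    have hd : Fintype.card (Equiv.Perm (↥V ⧸ I')) ∣ 24 := by
      rw [Fintype.card_perm, ← Nat.card_eq_fintype_card]
      exact (Nat.factorial_dvd_factorial hQ4).trans (by norm_num [Nat.factorial])
    exact orderOf_dvd_iff_pow_eq_one.1 (orderOf_dvd_card.trans hd)
  obtain ⟨k, hk⟩ := IsPGroup.iff_card.1 hV
  have hcen : y₀ ^ (24 * 2 ^ k) ∈ C := by
    rw [hC, Subgroup.mem_centralizer_iff]
    intro v hv
    set z := y₀ ^ 24 with hz
    have h1 : (⟨v, hv⟩ : ↥V)⁻¹ * (φ ^ 24) ⟨v, hv⟩ ∈ I' := by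
      rw [← QuotientGroup.eq, ← hpow, he24]
      rfl
    rw [← map_pow] at h1
    have hmem : v⁻¹ * (z * v * z⁻¹) ∈ I := h1
    set i := v⁻¹ * (z * v * z⁻¹) with hidef
    have hzi : z * i * z⁻¹ = i := by
      have : ∀ n : ℕ, y₀ ^ n * i * (y₀ ^ n)⁻¹ = i := by
        intro n
        induction n with
        | zero => simp
        | succ n ih =>
          calc y₀ ^ (n + 1) * i * (y₀ ^ (n + 1))⁻¹ = y₀ * (y₀ ^ n * i * (y₀ ^ n)⁻¹) * y₀⁻¹ := by
                rw [pow_succ']; group
            _ = i := by rw [ih, hfixI i hmem]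
      exact this 24
    have h2 := conj_pow_of_fixed (z := z) (v := v) (i := i) (by rw [hidef]; group) hzi (2 ^ k)
    have h3 : i ^ 2 ^ k = 1 := by
      have h5 : (⟨i, hIV hmem⟩ : ↥V) ^ Nat.card V = 1 := pow_card_eq_one'
      rw [hk] at h5
      exact congrArg Subtype.val h5
    rw [h3, mul_one, mul_inv_eq_iff_eq_mul] at h2
    rw [pow_mul]
    exact h2.symm
  have hh24 : h ^ (24 * 2 ^ k) = 1 := by
    rw [← hqy, ← map_pow]
    exact (QuotientGroup.eq_one_iff _).2 hcen
  have hh3 : orderOf h = 3 := by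
    have hd : orderOf h ∣ 2 ^ (k + 3) * 3 :=
      orderOf_dvd_of_pow_eq_one (by rw [show 2 ^ (k + 3) * 3 = 24 * 2 ^ k by ring]; exact hh24)
    have hco : Nat.Coprime (orderOf h) (2 ^ (k + 3)) :=
      Nat.Coprime.pow_right _ (Nat.coprime_two_right.2 ⟨m, hm⟩)
    rcases (Nat.dvd_prime Nat.prime_three).1 (hco.dvd_of_dvd_mul_left hd) with h1 | h1
    · exact absurd (orderOf_eq_one_iff.1 h1) hh1
    · exact h1
  -- a dihedral section of order six
  haveI : Fact (Nat.Prime 3) := ⟨Nat.prime_three⟩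
  have hh : h ^ 3 = 1 := by rw [← hh3]; exact pow_orderOf_eq_one h
  let ψ := Involves.dihedralHom (n := 3) hh htt hinv
  have hinj : Function.Injective ψ := by
    refine (injective_iff_map_eq_one ψ).2 fun d hd => ?_
    rcases d with i | i
    · rw [Involves.dihedralHom_r, ← orderOf_dvd_iff_pow_eq_one, hh3] at hd
      rw [DihedralGroup.one_def, (ZMod.val_eq_zero i).1 (Nat.eq_zero_of_dvd_of_lt hd i.val_lt)]
    · rw [Involves.dihedralHom_sr] at hd
      exfalso
      have h2 : t = (h ^ i.val)⁻¹ := eq_inv_of_mul_eq_one_left hd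
      have h5 : orderOf t ∣ orderOf h := by
        rw [h2, orderOf_inv]; exact orderOf_pow_dvd _
      rw [hto, hh3] at h5
      norm_num at h5
  set K := ψ.range.comap q with hK
  let f : ↥K →* DihedralGroup 3 :=
    (MonoidHom.ofInjective hinj).symm.toMonoidHom.comp ((q.comp K.subtype).codRestrict ψ.range fun x => x.2)
  have hf : Function.Surjective f := by
    intro d
    obtain ⟨g, hg⟩ := QuotientGroup.mk'_surjective C (ψ d)
    refine ⟨⟨g, show q g ∈ ψ.range from ⟨d, hg.symm⟩⟩, ?_⟩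
    show (MonoidHom.ofInjective hinj).symm _ = d
    rw [MulEquiv.symm_apply_eq]
    exact Subtype.ext hg
  obtain ⟨t₁, y₁, ⟨i, hi⟩, ⟨j, hj⟩, hty, hfy⟩ :=
    Involves.exists_inverting_of_surjective (p := 3) (by norm_num) f hf
  have hNall : ∀ g : G, g ∈ Subgroup.normalizer (V : Set G) := fun g => by
    rw [Subgroup.normalizer_eq_top]; exact Subgroup.mem_top g
  refine S2759.involves_of_inverted hV (hNall (t₁ : G)) (hNall (y₁ : G)) (fun hy => hfy ?_)
    ⟨i, by rw [Subgroup.orderOf_coe]; exact hi⟩ ⟨j, by rw [Subgroup.orderOf_coe]; exact hj⟩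
    (congrArg Subtype.val hty)
  have : ((q.comp K.subtype).codRestrict ψ.range fun x => x.2) y₁ = 1 :=
    Subtype.ext ((QuotientGroup.eq_one_iff _).2 hy)
  show (MonoidHom.ofInjective hinj).symm _ = 1
  rw [this, map_one]

end Cfsg.Agent.WCCenter
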