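/-
Weakly closed elements of the centre of `N(J(S))`: the local case.

* `Cond`, `Good`, `Hyp`;
* `fixed_of_setup` : the norm argument for a given abelian normal subgroup;
* `core` : an element of a normal `p`-subgroup is central.
-/
import Cfsg.Agent.Lib.WCCenter.Norm
import Cfsg.Agent.Lib.WCCenter.Transvection
import Cfsg.Agent.Lib.PLocal.Thompson
import Cfsg.Agent.Lib.PLocal.Action
import Cfsg.Agent.Lib.Fusion.SylowIn
import Cfsg.Agent.Lib.PReduced.Basic
import Cfsg.Agent.Lib.WeaklyClosed.Basic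

set_option autoImplicit false

namespace Cfsg.Agent.WCCenter

open Cfsg.Agent
open scoped commutatorElement

universe u

variable {G : Type u} [Group G] {p : ℕ}

/-- The three alternative assumptions. -/
def Cond (p : ℕ) (S : Subgroup G) (x : G) : Prop :=
  p ≠ 2 ∨ (∃ z ∈ S ⊓ Subgroup.centralizer (S : Set G), z ^ p = x) ∨
    ¬ Cfsg.Involves (Equiv.Perm (Fin 4)) G

/-- `x` is an element of `S` centralized by the normalizer of `J(S)`. -/
def Hyp (S : Subgroup G) (x : G) : Prop :=
  x ∈ S ∧ ∀ n ∈ Subgroup.normalizer ((Cfsg.thompsonSubgroupAOf S : Subgroup G) : Set G), n * x * n⁻¹ = x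

/-- The weak closure statement for all Sylow subgroups of `G`. -/
def Good (p : ℕ) (G : Type u) [Group G] : Prop :=
  ∀ (S : Sylow p G) (x : G), Hyp (S : Subgroup G) x → Cond p (S : Subgroup G) x →
    ∀ g : G, g * x * g⁻¹ ∈ (S : Subgroup G) → g * x * g⁻¹ = x

theorem mem_centralizer_of_hyp {S : Subgroup G} {x : G} (h : Hyp S x) :
    x ∈ S ⊓ Subgroup.centralizer (S : Set G) :=
  ⟨h.1, Subgroup.mem_centralizer_iff.2 fun s hs => mul_inv_eq_iff_eq_mul.1 (h.2 s
    (PLocal.normalizer_le_normalizer_thompsonSubgroupAOf S (Subgroup.le_normalizer hs)))⟩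

theorem hyp_pow {S : Subgroup G} {x : G} (h : Hyp S x) (k : ℕ) : Hyp S (x ^ k) :=
  ⟨pow_mem h.1 k, fun n hn => by rw [← conj_pow, h.2 n hn]⟩

theorem cond_pow {S : Subgroup G} {x : G} (h : Cond p S x) (k : ℕ) : Cond p S (x ^ k) := by
  rcases h with h | ⟨z, hz, rfl⟩ | h
  · exact Or.inl h
  · exact Or.inr (Or.inl ⟨z ^ k, pow_mem hz k, by rw [← pow_mul, ← pow_mul, mul_comm]⟩)
  · exact Or.inr (Or.inr h)

/-- Transport of `Good` to a subgroup and a Sylow subgroup of it. -/
theorem good_apply {H T : Subgroup G} (hg : Good p ↥H) (hT : Fusion.IsSylowIn p T H) {x : G}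
    (hxT : x ∈ T)
    (hn : ∀ n ∈ H, n ∈ Subgroup.normalizer ((Cfsg.thompsonSubgroupAOf T : Subgroup G) : Set G) → n * x * n⁻¹ = x)
    (hc : Cond p T x) : ∀ h ∈ H, h * x * h⁻¹ ∈ T → h * x * h⁻¹ = x := by
  intro h hh hhT
  obtain ⟨R, hR⟩ := (Fusion.isSylowIn_iff_exists hT.1).1 hT
  have hmap : (R : Subgroup H).map H.subtype = T := by rw [hR, Subgroup.map_subgroupOf_eq_of_le hT.1]
  have hJ : (Cfsg.thompsonSubgroupAOf (R : Subgroup H)).map H.subtype = Cfsg.thompsonSubgroupAOf T := by
    rw [PLocal.map_thompsonSubgroupAOf H.subtype H.subtype_injective.injOn, hmap]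
  have hmem : ∀ {y : H}, y ∈ (R : Subgroup H) ↔ (y : G) ∈ T := fun {y} => by
    rw [hR, Subgroup.mem_subgroupOf]
  refine congrArg Subtype.val (hg R ⟨x, hT.1 hxT⟩ ⟨hmem.2 hxT, fun n hn' => Subtype.ext (hn n n.2 ?_)⟩ ?_
    ⟨h, hh⟩ (hmem.2 hhT))
  · rw [← hJ, Subgroup.mem_normalizer_iff]
    intro y
    constructor
    · rintro ⟨y', hy', rfl⟩
      exact ⟨n * y' * n⁻¹, (Subgroup.mem_normalizer_iff.1 hn' y').1 hy', rfl⟩
    · rintro ⟨y', hy', he⟩
      refine ⟨n⁻¹ * y' * n, (Subgroup.mem_normalizer_iff''.1 hn' y').1 hy', ?_⟩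
      change (y' : G) = (n : G) * y * (n : G)⁻¹ at he
      show (n : G)⁻¹ * (y' : G) * (n : G) = y
      rw [he]; group
  · rcases hc with hc | ⟨z, hz, hzx⟩ | hc
    · exact Or.inl hc
    · refine Or.inr (Or.inl ⟨⟨z, hT.1 hz.1⟩, ⟨hmem.2 hz.1, Subgroup.mem_centralizer_iff.2 fun y hy => ?_⟩,
        Subtype.ext hzx⟩)
      exact Subtype.ext (Subgroup.mem_centralizer_iff.1 hz.2 y (hmem.1 hy))
    · exact Or.inr (Or.inr fun hi => hc (Involves.involves_of_subgroup hi))

theorem le_normalizer_inf (S K : Subgroup G) [K.Normal] :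
    S ≤ Subgroup.normalizer (((S ⊓ K : Subgroup G)) : Set G) := fun s hs =>
  Subgroup.mem_normalizer_iff.2 fun n =>
    ⟨fun hn => Subgroup.mem_inf.2 ⟨mul_mem (mul_mem hs (Subgroup.mem_inf.1 hn).1) (inv_mem hs),
        (inferInstance : K.Normal).conj_mem n (Subgroup.mem_inf.1 hn).2 s⟩,
      fun hn => Subgroup.mem_inf.2 ⟨by
        have := mul_mem (mul_mem (inv_mem hs) (Subgroup.mem_inf.1 hn).1) hs
        simpa [mul_assoc] using this, by
        have := (inferInstance : K.Normal).conj_mem _ (Subgroup.mem_inf.1 hn).2 s⁻¹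
        simpa [mul_assoc] using this⟩⟩

variable [Finite G] [hp : Fact p.Prime]

/-- In a proper subgroup over `S` an element of a normal `p`-subgroup is central. -/
theorem fixed_of_le (S : Sylow p G) (hsub : ∀ H : Subgroup G, H ≠ ⊤ → Good p ↥H) {U : Subgroup G}
    [U.Normal] (hU : IsPGroup p U) {x : G} (hxU : x ∈ U) (hx : Hyp (S : Subgroup G) x)
    (hc : Cond p (S : Subgroup G) x) {H : Subgroup G} (hSH : (S : Subgroup G) ≤ H) (hH : H ≠ ⊤) :
    ∀ h ∈ H, h * x * h⁻¹ = x := fun h hh =>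
  good_apply (hsub H hH) ⟨hSH, S.isPGroup', fun C h1 _ h3 => S.3 h3 h1⟩ hx.1
    (fun n _ hn => hx.2 n hn) hc h hh
    ((PReduced.le_pCore inferInstance hU).trans (PReduced.pCore_le_sylow S)
      ((inferInstance : U.Normal).conj_mem x hxU h))

/-- The generators for the norm argument: minimal subgroups satisfying the offender inequality. -/
def Offs (S K V : Subgroup G) : Set (Subgroup G) :=
  {B | B ≤ S ∧ S ⊓ K < B ∧
    Nat.card V * Nat.card (S ⊓ K : Subgroup G) ≤
      Nat.card B * Nat.card (V ⊓ Subgroup.centralizer (B : Set G) : Subgroup G) ∧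
    ∀ B' : Subgroup G, B' < B → S ⊓ K < B' →
      Nat.card B' * Nat.card (V ⊓ Subgroup.centralizer (B' : Set G) : Subgroup G) <
        Nat.card V * Nat.card (S ⊓ K : Subgroup G)}

theorem card_map_conj (g : G) (B : Subgroup G) : Nat.card (B.map (MulAut.conj g).toMonoidHom) = Nat.card B :=
  (Nat.card_congr (B.equivMapOfInjective _ (MulAut.conj g).injective).toEquiv).symm

/-- The offender set is preserved by conjugations that keep it inside `S`. -/
theorem offs_map {S K V : Subgroup G} [K.Normal] [V.Normal] {m : G} (hm : ∀ s ∈ S ⊓ K, m * s * m⁻¹ ∈ S)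
    {B : Subgroup G} (hB : B ∈ Offs S K V) (hBS : B.map (MulAut.conj m).toMonoidHom ≤ S) :
    B.map (MulAut.conj m).toMonoidHom ∈ Offs S K V := by
  set f := (MulAut.conj m).toMonoidHom
  have hf : Function.Injective f := (MulAut.conj m).injective
  have hSK : (S ⊓ K).map f = S ⊓ K := by
    refine Subgroup.eq_of_le_of_card_ge ?_ (card_map_conj m _).ge
    rintro _ ⟨s, hs, rfl⟩
    exact ⟨hm s hs, (inferInstance : K.Normal).conj_mem s hs.2 m⟩
  have hCV : ∀ D : Subgroup G, Nat.card (V ⊓ Subgroup.centralizer ((D.map f : Subgroup G) : Set G) : Subgroup G)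
      = Nat.card (V ⊓ Subgroup.centralizer (D : Set G) : Subgroup G) := by
    intro D
    rw [← card_map_conj m (V ⊓ Subgroup.centralizer (D : Set G)), Subgroup.map_inf _ _ _ hf,
      show V.map f = V from Subgroup.Normal.map_conj_eq V m]
    congr 3
    ext y
    constructor
    · rintro ⟨hyV, hy'⟩
      have hy := Subgroup.mem_centralizer_iff.1 hy'
      refine ⟨hyV, m⁻¹ * y * m, Subgroup.mem_centralizer_iff.2 fun d hd => ?_, by
        show m * (m⁻¹ * y * m) * m⁻¹ = y
        group⟩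
      have := hy (m * d * m⁻¹) ⟨d, hd, rfl⟩
      calc d * (m⁻¹ * y * m) = m⁻¹ * ((m * d * m⁻¹) * y) * m := by group
        _ = m⁻¹ * (y * (m * d * m⁻¹)) * m := by rw [this]
        _ = m⁻¹ * y * m * d := by group
    · rintro ⟨hyV, y', hy', rfl⟩
      refine ⟨hyV, Subgroup.mem_centralizer_iff.2 ?_⟩
      rintro _ ⟨d, hd, rfl⟩
      show f d * f y' = f y' * f d
      rw [← map_mul, ← map_mul, Subgroup.mem_centralizer_iff.1 hy' d hd]
  obtain ⟨-, h2, h3, h4⟩ := hB
  refine ⟨hBS, ?_, ?_, fun B' hB' hlt => ?_⟩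
  · rw [← hSK]; exact (Subgroup.map_lt_map_iff_of_injective hf).2 h2
  · rw [hCV, card_map_conj]; exact h3
  · obtain ⟨D, rfl⟩ : ∃ D : Subgroup G, D.map f = B' :=
      ⟨B'.comap f, Subgroup.map_comap_eq_self_of_surjective (MulAut.conj m).surjective B'⟩
    rw [← hSK] at hlt
    rw [hCV, card_map_conj]
    exact h4 D ((Subgroup.map_lt_map_iff_of_injective hf).1 hB') ((Subgroup.map_lt_map_iff_of_injective hf).1 hlt)

/-- A transvection of a `p`-group commutes with its commutators, which have order dividing `p`. -/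
theorem transvection {S V : Subgroup G} [V.Normal] (hS : IsPGroup p S) (hVS : V ≤ S)
    (hVab : ∀ u ∈ V, ∀ v ∈ V, u * v = v * u) {a : G} (haS : a ∈ S)
    (hidx : Nat.card V ≤ p * Nat.card (V ⊓ Subgroup.centralizer ({a} : Set G) : Subgroup G)) {v : G}
    (hv : v ∈ V) : ⁅a, v⁆ ^ p = 1 ∧ a * ⁅a, v⁆ * a⁻¹ = ⁅a, v⁆ := by
  have hmem : ∀ w ∈ V, ⁅a, w⁆ ∈ V := fun w hw => by
    rw [commutatorElement_def]
    exact mul_mem ((inferInstance : V.Normal).conj_mem w hw a) (inv_mem hw)
  let φ : ↥V →* G := MonoidHom.mk' (fun w => ⁅a, (w : G)⁆) fun w w' => by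
    have h1 := hVab _ (inv_mem w.2) _ (hmem w' w'.2)
    simp only [Subgroup.coe_mul, commutatorElement_def] at h1 ⊢
    calc a * ((w : G) * w') * a⁻¹ * ((w : G) * w')⁻¹
        = a * (w : G) * a⁻¹ * ((a * w' * a⁻¹ * (w' : G)⁻¹) * (w : G)⁻¹) := by group
      _ = a * (w : G) * a⁻¹ * ((w : G)⁻¹ * (a * w' * a⁻¹ * (w' : G)⁻¹)) := by rw [h1]
      _ = a * (w : G) * a⁻¹ * (w : G)⁻¹ * (a * w' * a⁻¹ * (w' : G)⁻¹) := by group
  have hker : φ.ker = (V ⊓ Subgroup.centralizer ({a} : Set G)).subgroupOf V := by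
    ext w
    rw [MonoidHom.mem_ker, Subgroup.mem_subgroupOf, Subgroup.mem_inf, Subgroup.mem_centralizer_singleton_iff]
    show ⁅a, (w : G)⁆ = 1 ↔ _
    rw [commutatorElement_eq_one_iff_mul_comm]
    exact ⟨fun h => ⟨w.2, h.symm⟩, fun h => h.2.symm⟩
  set I := φ.range with hI
  have hIV : I ≤ V := by rintro _ ⟨w, rfl⟩; exact hmem w w.2
  have hIp : Nat.card I ≤ p := by
    have h1 := φ.ker.card_mul_index
    rw [Subgroup.index_ker, hker,
      Nat.card_congr (Subgroup.subgroupOfEquivOfLe (inf_le_left : V ⊓ _ ≤ V)).toEquiv] at h1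
    have h2 : Nat.card (V ⊓ Subgroup.centralizer ({a} : Set G) : Subgroup G) * Nat.card I ≤
        Nat.card (V ⊓ Subgroup.centralizer ({a} : Set G) : Subgroup G) * p := by
      rw [h1, mul_comm _ p]; exact hidx
    exact Nat.le_of_mul_le_mul_left h2 Nat.card_pos
  obtain ⟨j, hj⟩ := IsPGroup.iff_card.1 (hS.to_le (hIV.trans hVS))
  have hjle : j ≤ 1 := by
    rw [hj] at hIp
    exact (Nat.pow_le_pow_iff_right hp.out.one_lt).1 (hIp.trans_eq (pow_one p).symm)
  have hcI : ⁅a, v⁆ ∈ I := ⟨⟨v, hv⟩, rfl⟩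
  have hcp : ⁅a, v⁆ ^ p = 1 := by
    have h := congrArg Subtype.val (pow_card_eq_one' (x := (⟨_, hcI⟩ : I)))
    rw [hj] at h
    rcases Nat.le_one_iff_eq_zero_or_eq_one.1 hjle with rfl | rfl
    · have h' : ⁅a, v⁆ = 1 := by simpa using h
      rw [h', one_pow]
    · simpa using h
  refine ⟨hcp, ?_⟩
  -- `[I, a]` is a proper subgroup of `I`
  have haN : Subgroup.zpowers a ≤ Subgroup.normalizer (V : Set G) := by
    rw [Subgroup.normalizer_eq_top]; exact le_top
  set W := ⁅I, Subgroup.zpowers a⁆ with hW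
  have hWI : W ≤ I := by
    refine Subgroup.commutator_le.2 fun i hi g hg => ?_
    have hinvI : ∀ (k : ℕ), ∀ i ∈ I, a ^ k * i * (a ^ k)⁻¹ ∈ I := by
      intro k
      induction k with
      | zero => intro i hi; simpa using hi
      | succ k ih =>
        intro i hi
        have h1 : a * i * a⁻¹ ∈ I := by
          have h2 : ⁅a, i⁆ ∈ I := ⟨⟨i, hIV hi⟩, rfl⟩
          have h3 := mul_mem h2 hi
          rw [commutatorElement_def] at h3
          simpa using h3
        have := ih _ h1
        rw [pow_succ]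
        simpa [mul_assoc] using this
    obtain ⟨k, rfl⟩ := Submonoid.mem_powers_iff _ _ |>.1 (mem_powers_iff_mem_zpowers.2 hg)
    rw [commutatorElement_def]
    have := mul_mem hi (hinvI k _ (inv_mem hi))
    simpa [mul_assoc] using this
  have hWbot : W = ⊥ := by
    by_contra hne
    have hIW : I ≤ W := by
      refine (Subgroup.eq_of_le_of_card_ge hWI ?_).ge
      obtain ⟨i, hi⟩ := IsPGroup.iff_card.1 (hS.to_le (hWI.trans (hIV.trans hVS)))
      have hi0 : i ≠ 0 := by
        rintro rfl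
        exact hne (Subgroup.card_eq_one.1 (by simpa using hi))
      rw [hj, hi]
      exact Nat.pow_le_pow_right hp.out.pos (by omega)
    have hIbot : I = ⊥ := PLocal.eq_bot_of_le_commutator_pgroup (p := p) (hS.to_le hVS) haN
      (fun g hg => by
        obtain ⟨k, hk⟩ := hS ⟨g, Subgroup.zpowers_le.2 haS hg⟩
        refine ⟨k, ?_⟩
        have h := congrArg Subtype.val hk
        simp only [SubmonoidClass.coe_pow, OneMemClass.coe_one] at h
        rw [h]; exact one_mem _) hIV hIW
    exact hne (le_bot_iff.1 (hWI.trans hIbot.le))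
  have := Subgroup.mem_centralizer_iff.1 ((Subgroup.commutator_eq_bot_iff_le_centralizer.1 hWbot) hcI) a
    (Subgroup.mem_zpowers a)
  rw [this, mul_inv_cancel_right]

/-- The norm argument. -/
theorem fixed_of_setup (S : Sylow p G) (hsub : ∀ H : Subgroup G, H ≠ ⊤ → Good p ↥H) {U : Subgroup G}
    [U.Normal] (hU : IsPGroup p U) {x y : G} (hxU : x ∈ U) (hx : Hyp (S : Subgroup G) x)
    (hc : Cond p (S : Subgroup G) x) (hyS : y ∈ (S : Subgroup G) ⊓ Subgroup.centralizer ((S : Subgroup G) : Set G))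
    {V : Subgroup G} [V.Normal] (hV : V = Subgroup.normalClosure {y}) (hVS : V ≤ (S : Subgroup G))
    (hVab : ∀ u ∈ V, ∀ v ∈ V, u * v = v * u) (hxV : x ∈ V)
    (hquad : ∀ a ∈ (S : Subgroup G), a ∉ Subgroup.centralizer (V : Set G) →
      a ^ p ∈ Subgroup.centralizer (V : Set G) →
      Nat.card V ≤ p * Nat.card (V ⊓ Subgroup.centralizer ({a} : Set G) : Subgroup G) →
      (∀ N : Subgroup G, N.Normal → Subgroup.centralizer (V : Set G) ≤ N →
        IsPGroup p (N.map (QuotientGroup.mk' (Subgroup.centralizer (V : Set G)))) → a ∉ N) →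
      p ≠ 2 ∨ ∀ w ∈ Subgroup.normalClosure ({x} : Set G), a * w * a⁻¹ = w)
    (hIH : ∀ g : G, g * x ^ p * g⁻¹ = x ^ p) : ∀ g : G, g * x * g⁻¹ = x := by
  classical
  set K := Subgroup.centralizer (V : Set G) with hK
  haveI : K.Normal := inferInstance
  have hKfix : ∀ c ∈ K, c * x * c⁻¹ = x := fun c hc => by
    rw [← Subgroup.mem_centralizer_iff.1 hc x hxV, mul_inv_cancel_right]
  have hSp : IsPGroup p (S : Subgroup G) := S.isPGroup'
  have hsylK : Fusion.IsSylowIn p ((S : Subgroup G) ⊓ K) K :=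
    Fusion.IsSylowIn.inf_normal (A := ⊤) ⟨le_top, hSp, fun C h1 _ h3 => S.3 h3 h1⟩ le_top
      (fun g _ n hn => (inferInstance : K.Normal).conj_mem n hn g)
  by_cases hJK : ∀ A ∈ PLocal.maxIn PLocal.abelian (S : Subgroup G), A ≤ K
  · -- `J(S)` centralizes `V`
    intro g
    have hTle : ((S : Subgroup G) ⊓ K).map (MulAut.conj g).toMonoidHom ≤ K := by
      rintro _ ⟨s, hs, rfl⟩
      exact (inferInstance : K.Normal).conj_mem s hs.2 g
    obtain ⟨c, hcK, hc'⟩ := hsylK.exists_conj_le ((hSp.to_le inf_le_left).map _) hTle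
    set n := c * g with hn
    have hn1 : ∀ s ∈ (S : Subgroup G) ⊓ K, n * s * n⁻¹ ∈ (S : Subgroup G) ⊓ K := fun s hs => by
      have := hc' _ ⟨s, hs, rfl⟩
      simpa [hn, mul_assoc] using this
    have hJle : (Cfsg.thompsonSubgroupAOf (S : Subgroup G)).map (MulAut.conj n).toMonoidHom =
        Cfsg.thompsonSubgroupAOf (S : Subgroup G) := by
      refine Subgroup.eq_of_le_of_card_ge ?_ (card_map_conj n _).ge
      rw [PLocal.thompsonSubgroupAOf_eq, PLocal.map_sSup_eq]
      refine sSup_le ?_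
      rintro _ ⟨A, hA, rfl⟩
      refine le_sSup ⟨?_, ?_, fun B hB hBab => ?_⟩
      · rintro _ ⟨a, ha, rfl⟩
        exact (hn1 a ⟨hA.1 ha, hJK A hA ha⟩).1
      · exact (PLocal.abelian_map_iff (H := A) (MulAut.conj n).injective.injOn le_rfl).2 hA.2.1
      · rw [card_map_conj]; exact hA.2.2 B hB hBab
    have hnx := hx.2 n (WeaklyClosed.cj_eq_self_iff.1 hJle)
    calc g * x * g⁻¹ = c⁻¹ * (n * x * n⁻¹) * c⁻¹⁻¹ := by rw [hn]; group
      _ = x := by rw [hnx]; exact hKfix _ (inv_mem hcK)
  push Not at hJK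
  obtain ⟨A, hA, hAK⟩ := hJK
  -- a candidate
  have hcand : (A ⊔ ((S : Subgroup G) ⊓ K)) ∈ {B : Subgroup G | B ≤ (S : Subgroup G) ∧
      (S : Subgroup G) ⊓ K < B ∧ Nat.card V * Nat.card ((S : Subgroup G) ⊓ K : Subgroup G) ≤
        Nat.card B * Nat.card (V ⊓ Subgroup.centralizer (B : Set G) : Subgroup G)} := by
    set T := (S : Subgroup G) ⊓ K with hT
    have hTn : A ≤ Subgroup.normalizer (T : Set G) := hA.1.trans (le_normalizer_inf _ K)
    refine ⟨sup_le hA.1 inf_le_left, lt_of_le_of_ne le_sup_right fun h => hAK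
      ((le_sup_left.trans h.ge).trans inf_le_right), ?_⟩
    have hAT : T ⊓ A = A ⊓ K := by
      rw [hT, inf_right_comm, inf_eq_right.2 hA.1]
    have hVA : V ⊓ Subgroup.centralizer (A : Set G) = A ⊓ V := by
      refine le_antisymm (fun v hv => ⟨PLocal.mem_of_centralizes_abelian hA (hVS hv.1) hv.2, hv.1⟩)
        fun v hv => ⟨hv.2, Subgroup.le_centralizer_iff_isMulCommutative.2 hA.2.1 hv.1⟩
    have hCle : V ⊓ Subgroup.centralizer (A : Set G) ≤
        V ⊓ Subgroup.centralizer ((A ⊔ T : Subgroup G) : Set G) := by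
      refine le_inf inf_le_left (PLocal.le_centralizer_comm (sup_le (PLocal.le_centralizer_comm inf_le_right) ?_))
      exact inf_le_right.trans (Subgroup.centralizer_le inf_le_left)
    -- the abelian subgroup `(A ⊓ K) ⊔ V`
    have hDab : PLocal.abelian ((A ⊓ K) ⊔ V) := by
      refine Subgroup.le_centralizer_iff_isMulCommutative.1 ?_
      rw [PLocal.centralizer_sup]
      refine sup_le (le_inf ?_ inf_le_right) (le_inf ?_ fun u hu => Subgroup.mem_centralizer_iff.2
        fun v hv => hVab v hv u hu)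
      · exact inf_le_left.trans ((Subgroup.le_centralizer_iff_isMulCommutative.2 hA.2.1).trans
          (Subgroup.centralizer_le inf_le_left))
      · exact PLocal.le_centralizer_comm inf_le_right
    have hD := hA.2.2 _ (sup_le (inf_le_left.trans hA.1) hVS) hDab
    have e1 := PLocal.card_sup_mul_card_inf (H := V) (K := A ⊓ K)
      (by rw [Subgroup.normalizer_eq_top]; exact le_top)
    rw [sup_comm, show V ⊓ (A ⊓ K) = A ⊓ V from by
      rw [← inf_assoc, inf_comm V A]
      exact inf_eq_left.2 (inf_le_right.trans fun v hv => Subgroup.mem_centralizer_iff.2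
        fun u hu => hVab u hu v hv)] at e1
    have e2 := PLocal.card_sup_mul_card_inf (H := T) (K := A) hTn
    rw [sup_comm, hAT] at e2
    have h3 : Nat.card V * Nat.card T * Nat.card (A ⊓ K : Subgroup G) ≤
        (Nat.card (A ⊔ T : Subgroup G) * Nat.card (V ⊓ Subgroup.centralizer ((A ⊔ T : Subgroup G) : Set G) :
          Subgroup G)) * Nat.card (A ⊓ K : Subgroup G) := by
      calc Nat.card V * Nat.card T * Nat.card (A ⊓ K : Subgroup G)
          = Nat.card T * (Nat.card V * Nat.card (A ⊓ K : Subgroup G)) := by ring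
        _ = Nat.card T * (Nat.card ((A ⊓ K) ⊔ V : Subgroup G) * Nat.card (A ⊓ V : Subgroup G)) := by rw [e1]
        _ ≤ Nat.card T * (Nat.card A * Nat.card (A ⊓ V : Subgroup G)) :=
            Nat.mul_le_mul le_rfl (Nat.mul_le_mul hD le_rfl)
        _ = (Nat.card T * Nat.card A) * Nat.card (V ⊓ Subgroup.centralizer (A : Set G) : Subgroup G) := by
            rw [hVA]; ring
        _ ≤ (Nat.card T * Nat.card A) * Nat.card (V ⊓ Subgroup.centralizer ((A ⊔ T : Subgroup G) : Set G) :
              Subgroup G) := Nat.mul_le_mul le_rfl (Subgroup.card_le_of_le hCle)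
        _ = _ := by rw [← e2]; ring
    exact Nat.le_of_mul_le_mul_right h3 Nat.card_pos
  obtain ⟨B₁, hB₁⟩ := (Set.toFinite _).exists_minimal ⟨_, hcand⟩
  have hB₁O : B₁ ∈ Offs (S : Subgroup G) K V := by
    refine ⟨hB₁.1.1, hB₁.1.2.1, hB₁.1.2.2, fun B' hlt hB' => ?_⟩
    by_contra hcon
    push Not at hcon
    exact hlt.not_ge (hB₁.2 ⟨hlt.le.trans hB₁.1.1, hB', hcon⟩ hlt.le)
  set J' := sSup (Offs (S : Subgroup G) K V) with hJ'
  have hJ'S : J' ≤ (S : Subgroup G) := sSup_le fun B hB => hB.1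
  have hSKJ : (S : Subgroup G) ⊓ K ≤ J' := hB₁O.2.1.le.trans (le_sSup hB₁O)
  have hkey : ∀ m : G, (∀ j ∈ J', m * j * m⁻¹ ∈ (S : Subgroup G)) →
      m ∈ Subgroup.normalizer (J' : Set G) := by
    intro m hm
    refine WeaklyClosed.cj_eq_self_iff.1 (Subgroup.eq_of_le_of_card_ge ?_ (card_map_conj m J').ge :
      J'.map (MulAut.conj m).toMonoidHom = J')
    conv_lhs => rw [hJ', PLocal.map_sSup_eq]
    refine sSup_le ?_
    rintro _ ⟨B, hB, rfl⟩
    refine le_sSup (offs_map (fun s hs => hm s (hSKJ hs)) hB ?_)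
    rintro _ ⟨b, hb, rfl⟩
    exact hm b ((le_sSup hB : B ≤ J') hb)
  set H := Subgroup.normalizer (J' : Set G) with hH
  have hSH : (S : Subgroup G) ≤ H := fun s hs => hkey s fun j hj =>
    mul_mem (mul_mem hs (hJ'S hj)) (inv_mem hs)
  have hHtop : H ≠ ⊤ := by
    intro h
    haveI : J'.Normal := Subgroup.normalizer_eq_top_iff.1 h
    refine hB₁O.2.1.not_ge (le_inf hB₁O.1 ((le_sSup hB₁O).trans ?_))
    show J' ≤ K
    rw [hK]
    refine PLocal.le_centralizer_comm ?_
    rw [hV]
    refine Subgroup.normalClosure_le_normal (Set.singleton_subset_iff.2 ?_)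
    exact Subgroup.centralizer_le (SetLike.coe_subset_coe.2 hJ'S) hyS.2
  have hHfix := fixed_of_le S hsub hU hxU hx hc hSH hHtop
  -- an element all of whose `J'`-fixed conjugates are trivial
  have hstab : ∀ g : G, (∀ j ∈ J', j * (g * x * g⁻¹) * j⁻¹ = g * x * g⁻¹) → g * x * g⁻¹ = x := by
    intro g hg
    set St := Subgroup.centralizer ({g * x * g⁻¹} : Set G)
    have hJSt : J' ≤ St := fun j hj => Subgroup.mem_centralizer_singleton_iff.2
      (mul_inv_eq_iff_eq_mul.1 (hg j hj))
    have hgS : Fusion.IsSylowIn p ((S : Subgroup G).map (MulAut.conj g).toMonoidHom) St := by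
      refine ⟨?_, hSp.map _, fun C h1 _ h3 => (Subgroup.eq_of_le_of_card_ge h1 ?_).symm⟩
      · rintro _ ⟨s, hs, rfl⟩
        refine Subgroup.mem_centralizer_singleton_iff.2 ?_
        show g * s * g⁻¹ * (g * x * g⁻¹) = g * x * g⁻¹ * (g * s * g⁻¹)
        have := Subgroup.mem_centralizer_iff.1 (mem_centralizer_of_hyp hx).2 s hs
        calc g * s * g⁻¹ * (g * x * g⁻¹) = g * (s * x) * g⁻¹ := by group
          _ = g * (x * s) * g⁻¹ := by rw [this]
          _ = _ := by group
      · obtain ⟨P, hP⟩ := h3.exists_le_sylow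
        rw [card_map_conj, show Nat.card (S : Subgroup G) = Nat.card (P : Subgroup G) from
          (Sylow.card_eq_multiplicity S).trans (Sylow.card_eq_multiplicity P).symm]
        exact Subgroup.card_le_of_le hP
    obtain ⟨c, hcSt, hc'⟩ := hgS.exists_conj_le (hSp.to_le hJ'S) hJSt
    have hm : ∀ j ∈ J', g⁻¹ * c * j * (g⁻¹ * c)⁻¹ ∈ (S : Subgroup G) := by
      intro j hj
      obtain ⟨s, hs, he⟩ := hc' j hj
      change g * s * g⁻¹ = c * j * c⁻¹ at he
      rw [show g⁻¹ * c * j * (g⁻¹ * c)⁻¹ = g⁻¹ * (c * j * c⁻¹) * g by group, ← he]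
      rw [show g⁻¹ * (g * s * g⁻¹) * g = s by group]
      exact hs
    have h1 := hHfix _ (hkey _ hm)
    have h2 := Subgroup.mem_centralizer_singleton_iff.1 hcSt
    calc g * x * g⁻¹ = c⁻¹ * (c * (g * x * g⁻¹)) := by group
      _ = c⁻¹ * ((g * x * g⁻¹) * c) := by rw [h2]
      _ = c⁻¹ * g * x * (c⁻¹ * g)⁻¹ := by group
      _ = x := by
        have h3 : (g⁻¹ * c)⁻¹ * x * ((g⁻¹ * c)⁻¹)⁻¹ = x := hHfix _ (inv_mem (hkey _ hm))
        calc c⁻¹ * g * x * (c⁻¹ * g)⁻¹ = (g⁻¹ * c)⁻¹ * x * ((g⁻¹ * c)⁻¹)⁻¹ := by group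
          _ = x := h3
  -- the abelian group generated by the conjugates of `x`
  set W := Subgroup.normalClosure ({x} : Set G) with hW
  have hWV : W ≤ V := Subgroup.normalClosure_le_normal (Set.singleton_subset_iff.2 hxV)
  haveI : W.Normal := Subgroup.normalClosure_normal
  letI : CommGroup ↥W := { (inferInstance : Group ↥W) with
    mul_comm := fun a b => Subtype.ext (hVab a (hWV a.2) b (hWV b.2)) }
  letI : MulDistribMulAction G ↥W := MulDistribMulAction.compHom ↥W (MulAut.conjNormal : G →* MulAut ↥W)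
  have hsmul : ∀ (g : G) (w : ↥W), ((g • w : ↥W) : G) = g * w * g⁻¹ := fun g w => rfl
  have hxW : x ∈ W := Subgroup.subset_normalClosure rfl
  have hvan : Vanish p ↥W J' := by
    intro M hMJ hMn hrel hker
    obtain ⟨B, hB, hBM⟩ : ∃ B ∈ Offs (S : Subgroup G) K V, ¬ B ≤ M := by
      by_contra hcon
      push Not at hcon
      have h1 : M.relIndex J' = 1 := Subgroup.relIndex_eq_one.2 (sSup_le hcon)
      exact hp.out.ne_one (hrel.symm.trans h1)
    obtain ⟨a, haB, haM⟩ := SetLike.not_le_iff_exists.1 hBM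
    have hBJ : B ≤ J' := le_sSup hB
    refine ⟨a, hBJ haB, haM, fun w hw => ?_⟩
    have hKM : (S : Subgroup G) ⊓ K ≤ M := fun s hs => hker s (hSKJ hs) fun u => Subtype.ext (by
      rw [hsmul, ← Subgroup.mem_centralizer_iff.1 hs.2 u (hWV u.2), mul_inv_cancel_right])
    set B0 := B ⊓ M with hB0
    have hlt : B0 < B := lt_of_le_of_ne inf_le_left fun h => hBM (h ▸ inf_le_right)
    have hcard : Nat.card B ≤ p * Nat.card B0 := by
      have h1 : B0.relIndex B ≤ p := by
        rw [hB0, inf_comm, Subgroup.inf_relIndex_right]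
        exact (Subgroup.relIndex_le_of_le_right hBJ (by rw [hrel]; exact hp.out.ne_zero)).trans hrel.le
      have h2 := (B0.subgroupOf B).card_mul_index
      rw [Nat.card_congr (Subgroup.subgroupOfEquivOfLe hlt.le).toEquiv] at h2
      rw [← h2, mul_comm p]
      exact Nat.mul_le_mul le_rfl h1
    have hwC : (w : G) ∈ V ⊓ Subgroup.centralizer (B0 : Set G) := by
      refine ⟨hWV w.2, Subgroup.mem_centralizer_iff.2 fun b hb => ?_⟩
      have := congrArg Subtype.val (hw b hb.2)
      rw [hsmul] at this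
      exact mul_inv_eq_iff_eq_mul.1 this
    by_cases hgt : (S : Subgroup G) ⊓ K < B0
    · -- minimality: `B` has the same fixed points as `B0`
      left
      refine Subtype.ext ?_
      rw [hsmul]
      have h1 := hB.2.2.2 B0 hlt hgt
      have hle : V ⊓ Subgroup.centralizer (B : Set G) ≤ V ⊓ Subgroup.centralizer (B0 : Set G) :=
        inf_le_inf_left _ (Subgroup.centralizer_le inf_le_left)
      have heq : V ⊓ Subgroup.centralizer (B : Set G) = V ⊓ Subgroup.centralizer (B0 : Set G) := by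
        by_contra hne
        have hV0 : V ⊓ Subgroup.centralizer (B0 : Set G) ≤ (S : Subgroup G) := inf_le_left.trans hVS
        obtain ⟨i, hi⟩ := IsPGroup.iff_card.1 (hSp.to_le (hle.trans hV0))
        obtain ⟨j, hj⟩ := IsPGroup.iff_card.1 (hSp.to_le hV0)
        have hij : i < j := by
          by_contra hji
          refine hne (Subgroup.eq_of_le_of_card_ge hle ?_)
          rw [hi, hj]
          exact Nat.pow_le_pow_right hp.out.pos (not_lt.1 hji)
        have h2 : p * Nat.card (V ⊓ Subgroup.centralizer (B : Set G) : Subgroup G) ≤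
            Nat.card (V ⊓ Subgroup.centralizer (B0 : Set G) : Subgroup G) := by
          rw [hi, hj, ← pow_succ']
          exact Nat.pow_le_pow_right hp.out.pos hij
        have h3 : Nat.card V * Nat.card ((S : Subgroup G) ⊓ K : Subgroup G) ≤
            Nat.card B0 * Nat.card (V ⊓ Subgroup.centralizer (B0 : Set G) : Subgroup G) := by
          refine hB.2.2.1.trans ((Nat.mul_le_mul hcard le_rfl).trans ?_)
          rw [mul_comm p (Nat.card B0), mul_assoc]
          exact Nat.mul_le_mul le_rfl h2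
        exact absurd h1 (not_lt.2 h3)
      rw [← heq] at hwC
      rw [Subgroup.mem_centralizer_iff.1 hwC.2 a haB, mul_inv_cancel_right]
    · -- `a` induces a transvection
      have hB0eq : B0 = (S : Subgroup G) ⊓ K :=
        ((le_inf hB.2.1.le hKM).eq_or_lt.resolve_right hgt).symm
      have haS : a ∈ (S : Subgroup G) := hB.1 haB
      have haK : a ∉ K := fun h => haM (hKM ⟨haS, h⟩)
      have hap : a ^ p ∈ K := by
        haveI : (M.subgroupOf J').Normal := ⟨fun n hn g => hMn g g.2 n hn⟩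
        have h1 : (⟨a, hBJ haB⟩ : J') ^ p ∈ M.subgroupOf J' := by
          have h2 := (M.subgroupOf J').pow_index_mem (⟨a, hBJ haB⟩ : J')
          rwa [show (M.subgroupOf J').index = p from hrel] at h2
        exact (hB0eq.le ⟨pow_mem haB p, h1⟩).2
      have hidx : Nat.card V ≤ p * Nat.card (V ⊓ Subgroup.centralizer ({a} : Set G) : Subgroup G) := by
        have h1 := hB.2.2.1
        rw [← hB0eq] at h1
        have h2 : Nat.card V * Nat.card B0 ≤
            (p * Nat.card (V ⊓ Subgroup.centralizer ({a} : Set G) : Subgroup G)) * Nat.card B0 :=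
          calc Nat.card V * Nat.card B0
              ≤ Nat.card B * Nat.card (V ⊓ Subgroup.centralizer (B : Set G) : Subgroup G) := h1
            _ ≤ (p * Nat.card B0) * Nat.card (V ⊓ Subgroup.centralizer ({a} : Set G) : Subgroup G) :=
                Nat.mul_le_mul hcard (Subgroup.card_le_of_le (inf_le_inf_left _
                  (Subgroup.centralizer_le (Set.singleton_subset_iff.2 haB))))
            _ = _ := by ring
        exact Nat.le_of_mul_le_mul_right h2 Nat.card_pos
      have hnot : ∀ N : Subgroup G, N.Normal → K ≤ N →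
          IsPGroup p (N.map (QuotientGroup.mk' K)) → a ∉ N := by
        intro N hN hKN hNp haN
        -- `S ⊓ N` would be normalized by a proper subgroup only
        haveI := hN
        have hsylN : Fusion.IsSylowIn p ((S : Subgroup G) ⊓ N) N :=
          Fusion.IsSylowIn.inf_normal (A := ⊤) ⟨le_top, hSp, fun C h1 _ h3 => S.3 h3 h1⟩ le_top
            (fun g _ n hn => hN.conj_mem n hn g)
        have hNsplit : ∀ n ∈ N, ∃ k ∈ K, ∃ s ∈ (S : Subgroup G) ⊓ N, n = k * s := by
          intro n hn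
          have hq := hsylN.image (QuotientGroup.mk' K)
          have hle := hq.2.2 _ hq.1 le_rfl hNp
          have hmem : QuotientGroup.mk' K n ∈ ((S : Subgroup G) ⊓ N).map (QuotientGroup.mk' K) :=
            hle ▸ Subgroup.mem_map_of_mem _ hn
          obtain ⟨s, hs, he⟩ := hmem
          refine ⟨n * s⁻¹, (QuotientGroup.eq_one_iff _).1 ?_, s, hs, by group⟩
          show QuotientGroup.mk' K (n * s⁻¹) = 1
          rw [map_mul, map_inv, he, mul_inv_cancel]
        set H2 := Subgroup.normalizer ((((S : Subgroup G) ⊓ N) : Subgroup G) : Set G)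
        by_cases hH2 : H2 = ⊤
        · haveI : ((S : Subgroup G) ⊓ N).Normal := Subgroup.normalizer_eq_top_iff.1 hH2
          have hle : (S : Subgroup G) ⊓ N ≤ K := by
            rw [hK]
            refine PLocal.le_centralizer_comm ?_
            rw [hV]
            refine Subgroup.normalClosure_le_normal (Set.singleton_subset_iff.2 ?_)
            exact Subgroup.centralizer_le (SetLike.coe_subset_coe.2 inf_le_left) hyS.2
          exact haK (hle ⟨haS, haN⟩)
        · have hSH2 : (S : Subgroup G) ≤ H2 := le_normalizer_inf _ N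
          have hfix2 := fixed_of_le S hsub hU hxU hx hc hSH2 hH2
          -- then `x` is central, so `V` shows nothing new
          have hall : ∀ g : G, g * x * g⁻¹ = x := by
            intro g
            have hle2 : ((S : Subgroup G) ⊓ N).map (MulAut.conj g).toMonoidHom ≤ N := by
              rintro _ ⟨s, hs, rfl⟩
              exact hN.conj_mem s hs.2 g
            obtain ⟨c, hcN, hc'⟩ := hsylN.exists_conj_le ((hSp.to_le inf_le_left).map _) hle2
            have hcg : c * g ∈ H2 := by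
              refine WeaklyClosed.cj_eq_self_iff.1 (Subgroup.eq_of_le_of_card_ge ?_ (card_map_conj _ _).ge :
                ((S : Subgroup G) ⊓ N).map (MulAut.conj (c * g)).toMonoidHom = (S : Subgroup G) ⊓ N)
              rintro _ ⟨s, hs, rfl⟩
              have := hc' _ ⟨s, hs, rfl⟩
              simpa [mul_assoc] using this
            obtain ⟨k, hk, s, hs, hcks⟩ := hNsplit c hcN
            have h1 := hfix2 _ (mul_mem (inv_mem (hSH2 hs.1)) (one_mem _))
            have h2 := hfix2 _ hcg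
            calc g * x * g⁻¹ = (s⁻¹ * 1) * (k⁻¹ * (c * g * x * (c * g)⁻¹) * k⁻¹⁻¹) * (s⁻¹ * 1)⁻¹ := by
                  rw [hcks]; group
              _ = x := by rw [h2, hKfix _ (inv_mem hk), h1]
          have hWfix : W ≤ Subgroup.centralizer ({a} : Set G) := by
            refine Subgroup.closure_le _ |>.2 ?_
            intro u hu
            obtain ⟨b, rfl, hconj⟩ := Group.mem_conjugatesOfSet_iff.1 hu
            obtain ⟨g, rfl⟩ := isConj_iff.1 hconj
            rw [hall g]
            exact Subgroup.mem_centralizer_singleton_iff.2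
              (Subgroup.mem_centralizer_iff.1 (mem_centralizer_of_hyp hx).2 a haS).symm
          exact haM (hker a (hBJ haB) fun u => Subtype.ext (by
            rw [hsmul, ← Subgroup.mem_centralizer_singleton_iff.1 (hWfix u.2), mul_inv_cancel_right]))
      rcases hquad a haS haK hap hidx hnot with hp2 | hfix
      · right
        obtain ⟨h1, h2⟩ := transvection hSp hVS hVab haS hidx (hWV w.2)
        have hcW : ⁅a, (w : G)⁆ ∈ W := by
          rw [commutatorElement_def]
          exact mul_mem ((inferInstance : W.Normal).conj_mem w w.2 a) (inv_mem w.2)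
        refine ⟨hp2, ⟨_, hcW⟩, Subtype.ext ?_, Subtype.ext ?_, Subtype.ext ?_⟩
        · show a * (w : G) * a⁻¹ = (w : G) * ⁅a, (w : G)⁆
          rw [hVab _ (hWV w.2) _ (hWV hcW), commutatorElement_def, inv_mul_cancel_right]
        · exact h2
        · exact h1
      · exact Or.inl (Subtype.ext (hfix w w.2))
  obtain ⟨u, hu⟩ := exists_fixed (hSp.to_le hJ'S) hvan (⟨x, hxW⟩ : ↥W)
    (fun j hj => Subtype.ext (by
      show j * x * j⁻¹ = x
      rw [Subgroup.mem_centralizer_iff.1 (mem_centralizer_of_hyp hx).2 j (hJ'S hj), mul_inv_cancel_right]))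
    (fun g hg => Subtype.ext (hstab g fun j hj => congrArg Subtype.val (hg j hj)))
  -- `p`-th powers in `W` are powers of `x ^ p`
  have hpow : ∀ w : ↥W, w ^ p ∈ Subgroup.zpowers ((⟨x, hxW⟩ : ↥W) ^ p) := by
    intro w
    let P : Subgroup ↥W := (Subgroup.zpowers ((⟨x, hxW⟩ : ↥W) ^ p)).comap (powMonoidHom p)
    suffices h : W ≤ P.map W.subtype by
      obtain ⟨w', hw', he⟩ := h w.2
      rw [show w = w' from Subtype.ext he.symm]
      exact hw'
    refine (Subgroup.closure_le _).2 ?_
    intro r hr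
    obtain ⟨b, rfl, hconj⟩ := Group.mem_conjugatesOfSet_iff.1 hr
    obtain ⟨g, rfl⟩ := isConj_iff.1 hconj
    refine ⟨⟨g * b * g⁻¹, (inferInstance : W.Normal).conj_mem b hxW g⟩, ?_, rfl⟩
    refine ⟨1, Subtype.ext ?_⟩
    simp only [zpow_one, powMonoidHom_apply, SubmonoidClass.coe_pow]
    rw [conj_pow, hIH g]
  obtain ⟨k, hk⟩ := hpow u
  simp only at hk
  set xW : ↥W := ⟨x, hxW⟩
  set e : ℤ := 1 + (p : ℤ) * k with he
  have hfix : ∀ g : G, g • (xW ^ e) = xW ^ e := by
    intro g
    have h1 : xW * u ^ p = xW ^ e := by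
      rw [← hk, he, zpow_add, zpow_one, zpow_mul, zpow_natCast]
    rw [← h1]
    exact hu g
  intro g
  obtain ⟨n, hn⟩ := hSp ⟨x, hx.1⟩
  have hxn : xW ^ p ^ n = 1 := Subtype.ext (by simpa using congrArg Subtype.val hn)
  have hco : IsCoprime e ((p : ℤ) ^ n) := IsCoprime.pow_right ⟨1, -k, by rw [he]; ring⟩
  obtain ⟨r, s, hrs⟩ := hco
  have hxe : xW = (xW ^ e) ^ r := by
    conv_lhs => rw [← zpow_one xW, ← hrs, zpow_add, mul_comm r e, zpow_mul]
    rw [show (s * (p : ℤ) ^ n) = ((p ^ n : ℕ) : ℤ) * s by push_cast; ring, zpow_mul, zpow_natCast, hxn,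
      one_zpow, mul_one]
  have : g • xW = xW := by rw [hxe, smul_zpow', hfix]
  exact congrArg Subtype.val this

/-- An element of a normal `p`-subgroup fixed by `N(J(S))` is central. -/
theorem core (S : Sylow p G) (hsub : ∀ H : Subgroup G, H ≠ ⊤ → Good p ↥H) {U : Subgroup G} [U.Normal]
    (hU : IsPGroup p U) : ∀ (n : ℕ) {x : G}, orderOf x = n → x ∈ U → Hyp (S : Subgroup G) x →
    Cond p (S : Subgroup G) x → ∀ g : G, g * x * g⁻¹ = x := by
  intro n
  induction n using Nat.strong_induction_on with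
  | _ n IH =>
  intro x hn hxU hx hc g
  rcases eq_or_ne x 1 with rfl | hx1
  · simp
  have hUS : U ≤ (S : Subgroup G) := (PReduced.le_pCore inferInstance hU).trans (PReduced.pCore_le_sylow S)
  have hIH : ∀ g : G, g * x ^ p * g⁻¹ = x ^ p := by
    refine IH (orderOf (x ^ p)) ?_ rfl (pow_mem hxU p) (hyp_pow hx p) (cond_pow hc p)
    subst hn
    obtain ⟨k, hk⟩ := IsPGroup.iff_orderOf.1 S.isPGroup' ⟨x, hx.1⟩
    rw [Subgroup.orderOf_mk] at hk
    have hk0 : k ≠ 0 := by rintro rfl; exact hx1 (orderOf_eq_one_iff.1 (by simpa using hk))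
    rw [orderOf_pow, Nat.gcd_eq_right (hk ▸ dvd_pow_self p hk0)]
    exact Nat.div_lt_self (orderOf_pos x) hp.out.one_lt
  -- the normal closure of a central element inside a normal `p`-subgroup
  have hclos : ∀ {U' : Subgroup G} [U'.Normal] (_ : IsPGroup p U') {y : G} (_ : y ∈ U')
      (_ : y ∈ (S : Subgroup G) ⊓ Subgroup.centralizer ((S : Subgroup G) : Set G)),
      Subgroup.normalClosure ({y} : Set G) ≤ (S : Subgroup G) ∧
        ∀ u ∈ Subgroup.normalClosure ({y} : Set G), ∀ v ∈ Subgroup.normalClosure ({y} : Set G), u * v = v * u := by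
    intro U' _ hU' y hy hyS
    have hle : Subgroup.normalClosure ({y} : Set G) ≤ U' :=
      Subgroup.normalClosure_le_normal (Set.singleton_subset_iff.2 hy)
    have hle' : U' ≤ (S : Subgroup G) := (PReduced.le_pCore inferInstance hU').trans (PReduced.pCore_le_sylow S)
    have hcen : Subgroup.normalClosure ({y} : Set G) ≤ Subgroup.centralizer (U' : Set G) :=
      Subgroup.normalClosure_le_normal (Set.singleton_subset_iff.2
        (Subgroup.centralizer_le (SetLike.coe_subset_coe.2 hle') hyS.2))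
    exact ⟨hle.trans hle', fun u hu v hv => Subgroup.mem_centralizer_iff.1 (hcen hv) u (hle hu)⟩
  by_cases hp2 : p ≠ 2
  · obtain ⟨h1, h2⟩ := hclos hU hxU (mem_centralizer_of_hyp hx)
    exact fixed_of_setup S hsub hU hxU hx hc (mem_centralizer_of_hyp hx) rfl h1 h2
      (Subgroup.subset_normalClosure rfl) (fun _ _ _ _ _ _ => Or.inl hp2) hIH g
  push Not at hp2
  rcases hc with hc | ⟨z, hz, hzx⟩ | hc
  · exact absurd hp2 hc
  · -- `x` is a `p`-th power of a central element
    set K := Subgroup.centralizer (U : Set G) with hK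
    haveI : K.Normal := inferInstance
    have hzK : z ∈ (S : Subgroup G) ⊓ K :=
      ⟨hz.1, Subgroup.centralizer_le (SetLike.coe_subset_coe.2 hUS) hz.2⟩
    have hsylK : Fusion.IsSylowIn p ((S : Subgroup G) ⊓ K) K :=
      Fusion.IsSylowIn.inf_normal (A := ⊤)
        ⟨le_top, S.isPGroup', fun C h1 _ h3 => S.3 h3 h1⟩ le_top
        (fun g _ n hn => (inferInstance : K.Normal).conj_mem n hn g)
    by_cases hH : Subgroup.normalizer ((((S : Subgroup G) ⊓ K) : Subgroup G) : Set G) = ⊤
    · haveI : ((S : Subgroup G) ⊓ K).Normal := Subgroup.normalizer_eq_top_iff.1 hH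
      obtain ⟨h1, h2⟩ := hclos (U' := (S : Subgroup G) ⊓ K) (S.isPGroup'.to_le inf_le_left) hzK hz
      have hzV : z ∈ Subgroup.normalClosure ({z} : Set G) :=
        Subgroup.subset_normalClosure (Set.mem_singleton z)
      have hxV : x ∈ Subgroup.normalClosure ({z} : Set G) := by
        rw [← hzx]; exact pow_mem hzV p
      refine fixed_of_setup S hsub hU hxU hx (Or.inr (Or.inl ⟨z, hz, hzx⟩)) hz rfl h1 h2 hxV
        (fun a ha _ _ hidx _ => Or.inr ?_) hIH g
      -- every element of the closure of `x` is a `p`-th power in `V`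
      let V := Subgroup.normalClosure ({z} : Set G)
      have htr := fun v hv => transvection (V := V) S.isPGroup' h1 h2 ha hidx (v := v) hv
      intro w hw
      have hex : ∃ v ∈ V, w = v ^ p := by
        induction hw using Subgroup.closure_induction with
        | mem r hr =>
          obtain ⟨b, rfl, hconj⟩ := Group.mem_conjugatesOfSet_iff.1 hr
          obtain ⟨g', rfl⟩ := isConj_iff.1 hconj
          exact ⟨g' * z * g'⁻¹, Subgroup.normalClosure_normal.conj_mem z hzV g',
            by rw [conj_pow, hzx]⟩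
        | one => exact ⟨1, one_mem _, by simp⟩
        | mul a b _ _ iha ihb =>
          obtain ⟨u, hu, rfl⟩ := iha
          obtain ⟨v, hv, rfl⟩ := ihb
          exact ⟨u * v, mul_mem hu hv, ((show Commute u v from h2 u hu v hv).mul_pow p).symm⟩
        | inv a _ iha =>
          obtain ⟨u, hu, rfl⟩ := iha
          exact ⟨u⁻¹, inv_mem hu, (inv_pow u p).symm⟩
      obtain ⟨v, hv, rfl⟩ := hex
      obtain ⟨hcp, -⟩ := htr v hv
      have hcomm : Commute ⁅a, v⁆ v := h2 _ (by
        rw [commutatorElement_def]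
        exact mul_mem (Subgroup.normalClosure_normal.conj_mem v hv a) (inv_mem hv)) v hv
      rw [← conj_pow, show a * v * a⁻¹ = ⁅a, v⁆ * v by rw [commutatorElement_def, inv_mul_cancel_right],
        hcomm.mul_pow, hcp, one_mul]
    · -- Frattini argument
      have hSH : (S : Subgroup G) ≤ Subgroup.normalizer ((((S : Subgroup G) ⊓ K) : Subgroup G) : Set G) :=
        le_normalizer_inf _ K
      have hfix := fixed_of_le S hsub hU hxU hx (Or.inr (Or.inl ⟨z, hz, hzx⟩)) hSH hH
      have hle : ((S : Subgroup G) ⊓ K).map (MulAut.conj g).toMonoidHom ≤ K := by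
        rintro _ ⟨s, hs, rfl⟩
        exact (inferInstance : K.Normal).conj_mem s hs.2 g
      obtain ⟨c, hcK, hc'⟩ := hsylK.exists_conj_le ((S.isPGroup'.to_le inf_le_left).map _) hle
      have hcg : c * g ∈ Subgroup.normalizer ((((S : Subgroup G) ⊓ K) : Subgroup G) : Set G) := by
        refine WeaklyClosed.cj_eq_self_iff.1 (Subgroup.eq_of_le_of_card_ge ?_ (card_map_conj _ _).ge :
          ((S : Subgroup G) ⊓ K).map (MulAut.conj (c * g)).toMonoidHom = (S : Subgroup G) ⊓ K)
        rintro _ ⟨s, hs, rfl⟩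
        have := hc' _ ⟨s, hs, rfl⟩
        simpa [mul_assoc] using this
      calc g * x * g⁻¹ = c⁻¹ * (c * g * x * (c * g)⁻¹) * c⁻¹⁻¹ := by group
        _ = c⁻¹ * x * c⁻¹⁻¹ := by rw [hfix _ hcg]
        _ = x := by
          rw [← Subgroup.mem_centralizer_iff.1 (inv_mem hcK : c⁻¹ ∈ K) x hxU, mul_inv_cancel_right]
  · obtain ⟨h1, h2⟩ := hclos hU hxU (mem_centralizer_of_hyp hx)
    subst hp2
    refine fixed_of_setup S hsub hU hxU hx (Or.inr (Or.inr hc)) (mem_centralizer_of_hyp hx) rfl h1 h2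
      (Subgroup.subset_normalClosure rfl) (fun a ha haK ha2 hidx hnot => ?_) hIH g
    obtain ⟨k, hk⟩ := IsPGroup.iff_orderOf.1 S.isPGroup' ⟨a, ha⟩
    rw [Subgroup.orderOf_mk] at hk
    exact absurd (involves_S4_of_transvection (S.isPGroup'.to_le h1) ⟨k, hk⟩ haK ha2 hidx h2 hnot) hc

end Cfsg.Agent.WCCenter
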