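/-
Glauberman: an element of a Sylow subgroup centralized by `N(J(S))` is weakly closed
(`p` odd, or a `p`-th power of a central element, or no section `S₄`).

* `good` : the theorem for all finite groups.
-/
import Cfsg.Agent.Lib.WCCenter.Core
import Cfsg.Agent.Lib.PLocal.Functor
import Cfsg.Agent.Lib.Fusion.TameChain
import Cfsg.Agent.Lib.AlperinFamily.Basic

set_option autoImplicit false

namespace Cfsg.Agent.WCCenter

open Cfsg.Agent

universe u

variable {G : Type u} [Group G] [Finite G] {p : ℕ} [hp : Fact p.Prime]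

theorem lt_inf_normalizer {S D : Subgroup G} (hS : IsPGroup p S) (hD : D ≤ S) (hne : D ≠ S) :
    D < S ⊓ Subgroup.normalizer (D : Set G) :=
  AlperinFamily.exists_lt_inf_normalizer hS hD hne

/-- An element fixed by the normalizers of large subgroups survives a chain. -/
theorem fix_of_chain (S : Sylow p G) {x : G} (hx : Hyp (S : Subgroup G) x) {m : ℕ}
    (hbig : ∀ U : Subgroup G, U ≤ (S : Subgroup G) → x ∈ U →
      m < Nat.card ((S : Subgroup G) ⊓ Subgroup.normalizer (U : Set G) : Subgroup G) →
      ∀ n ∈ Subgroup.normalizer (U : Set G), n * x * n⁻¹ = x)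
    {A : Set G} {g : G} (h : TameChain.Chain S A g) (hxA : x ∈ A) (hm : m ≤ A.ncard) :
    g⁻¹ * x * g = x := by
  induction h with
  | nil A => simp
  | cons A Q y g hy ht hA _ ih =>
    have hfix : y⁻¹ * x * y = x := by
      set D := (S : Subgroup G) ⊓ (Q : Subgroup G) with hD
      have hy' : y⁻¹ ∈ Subgroup.normalizer (D : Set G) := inv_mem hy
      by_cases hDS : D = (S : Subgroup G)
      · rw [hDS] at hy'
        simpa using hx.2 _ (PLocal.normalizer_le_normalizer_thompsonSubgroupAOf _ hy')
      · have hlt := lt_inf_normalizer S.isPGroup' inf_le_left hDS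
        have hcard : A.ncard ≤ Nat.card D := by
          rw [← SetLike.coe_sort_coe, Nat.card_coe_set_eq]
          exact Set.ncard_le_ncard hA (Set.toFinite _)
        have := hbig D inf_le_left (hA hxA) ((hm.trans hcard).trans_lt (Set.ncard_lt_ncard hlt (Set.toFinite _)))
          _ hy'
        simpa using this
    have hinj : Function.Injective (fun a : G => y⁻¹ * a * y) := fun a b e => by simpa using e
    have h2 := ih ⟨x, hxA, hfix⟩ (by
      rw [TameChain.conjSet, Set.ncard_image_of_injective _ hinj]; exact hm)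
    calc (y * g)⁻¹ * x * (y * g) = g⁻¹ * (y⁻¹ * x * y) * g := by group
      _ = x := by rw [hfix, h2]

/-- Every element normalizing a subgroup of `S` containing `x` fixes `x`. -/
theorem fixed_normalizer (hG : ∀ H : Subgroup G, H ≠ ⊤ → Good p ↥H) (S : Sylow p G) {x : G}
    (hx : Hyp (S : Subgroup G) x) (hc : Cond p (S : Subgroup G) x) :
    ∀ (k : ℕ) (U : Subgroup G), U ≤ (S : Subgroup G) → x ∈ U →
      Nat.card G - Nat.card ((S : Subgroup G) ⊓ Subgroup.normalizer (U : Set G) : Subgroup G) = k →
      ∀ n ∈ Subgroup.normalizer (U : Set G), n * x * n⁻¹ = x := by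
  intro k
  induction k using Nat.strong_induction_on with
  | _ k IH =>
  intro U hUS hxU hk n hn
  set N := Subgroup.normalizer (U : Set G) with hN
  set R := (S : Subgroup G) ⊓ N with hR
  have hbig : ∀ V : Subgroup G, V ≤ (S : Subgroup G) → x ∈ V →
      Nat.card R < Nat.card ((S : Subgroup G) ⊓ Subgroup.normalizer (V : Set G) : Subgroup G) →
      ∀ n ∈ Subgroup.normalizer (V : Set G), n * x * n⁻¹ = x := fun V hV hxV hlt =>
    IH _ (by
      have := Subgroup.card_le_card_group ((S : Subgroup G) ⊓ Subgroup.normalizer (V : Set G))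
      omega) V hV hxV rfl
  have hUp : IsPGroup p U := S.isPGroup'.to_le hUS
  have hxR : x ∈ R := ⟨hx.1, Subgroup.le_normalizer hxU⟩
  by_cases hRS : R = (S : Subgroup G)
  · have hSN : (S : Subgroup G) ≤ N := inf_eq_left.1 hRS
    by_cases htop : N = ⊤
    · haveI : U.Normal := Subgroup.normalizer_eq_top_iff.1 htop
      exact core S hG hUp _ rfl hxU hx hc n
    · exact good_apply (hG N htop) ⟨hSN, S.isPGroup', fun C h1 _ h3 => S.3 h3 h1⟩ hx.1
        (fun m _ hm => hx.2 m hm) hc n hn (hUS ((Subgroup.mem_normalizer_iff.1 hn x).1 hxU))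
  · have hRp : IsPGroup p R := S.isPGroup'.to_inf_left
    by_cases hsyl : Fusion.IsSylowIn p R N
    · have htop : N ≠ ⊤ := fun h => hRS (by rw [hR, h, inf_top_eq])
      have hxc := (mem_centralizer_of_hyp hx).2
      have hxJ : x ∈ Cfsg.thompsonSubgroupAOf R := (PLocal.central_le_centerThompsonAOf
        ⟨hxR, Subgroup.centralizer_le (SetLike.coe_subset_coe.2 inf_le_left) hxc⟩).1
      have hJfix : ∀ m ∈ Subgroup.normalizer ((Cfsg.thompsonSubgroupAOf R : Subgroup G) : Set G),
          m * x * m⁻¹ = x :=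
        hbig _ ((PLocal.thompsonSubgroupAOf_le R).trans inf_le_left) hxJ (Set.ncard_lt_ncard
          ((lt_inf_normalizer S.isPGroup' inf_le_left hRS).trans_le
            (inf_le_inf_left _ (PLocal.normalizer_le_normalizer_thompsonSubgroupAOf R)))
          (Set.toFinite _))
      have hcR : Cond p R x := by
        rcases hc with h | ⟨z, hz, hzx⟩ | h
        · exact Or.inl h
        · refine Or.inr (Or.inl ⟨z, ⟨⟨hz.1, Subgroup.centralizer_le_normalizer _
            (Subgroup.centralizer_le (SetLike.coe_subset_coe.2 hUS) hz.2)⟩,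
            Subgroup.centralizer_le (SetLike.coe_subset_coe.2 inf_le_left) hz.2⟩, hzx⟩)
        · exact Or.inr (Or.inr h)
      exact good_apply (hG N htop) hsyl hxR (fun m _ hm => hJfix m hm) hcR n hn
        ⟨hUS ((Subgroup.mem_normalizer_iff.1 hn x).1 hxU),
          Subgroup.le_normalizer ((Subgroup.mem_normalizer_iff.1 hn x).1 hxU)⟩
    · obtain ⟨R', hRR', hR'⟩ := Fusion.exists_isSylowIn_ge hRp (inf_le_right : R ≤ N)
      have hlt : R < R' := lt_of_le_of_ne hRR' fun h => hsyl (h ▸ hR')
      have hS : Fusion.IsSylowIn p (S : Subgroup G) ⊤ :=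
        ⟨le_top, S.isPGroup', fun C h1 _ h3 => S.3 h3 h1⟩
      obtain ⟨h, -, hh⟩ := hS.exists_conj_le hR'.isPGroup le_top
      have hxh : h * x * h⁻¹ = x := by
        have hch : TameChain.Chain S (R : Set G) h⁻¹ :=
          TameChain.exists_chain S (fun a ha => ha.1) (by
            rintro _ ⟨a, ha, rfl⟩
            show h⁻¹⁻¹ * a * h⁻¹ ∈ (S : Subgroup G)
            rw [inv_inv]
            exact hh a (hRR' ha))
        simpa using fix_of_chain S hx hbig hch hxR (le_of_eq (Nat.card_coe_set_eq _))
      set U' := U.map (MulAut.conj h).toMonoidHom with hU'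
      have hU'S : U' ≤ (S : Subgroup G) := by
        rintro _ ⟨u, hu, rfl⟩
        exact hh u (hRR' ⟨hUS hu, Subgroup.le_normalizer hu⟩)
      have hconj : ∀ m ∈ N, h * m * h⁻¹ ∈ Subgroup.normalizer (U' : Set G) := fun m hm => by
        rw [← WeaklyClosed.cj_eq_self_iff]
        show WeaklyClosed.cj (h * m * h⁻¹) (WeaklyClosed.cj h U) = WeaklyClosed.cj h U
        rw [← WeaklyClosed.cj_mul, show h * m * h⁻¹ * h = h * m by group, WeaklyClosed.cj_mul,
          WeaklyClosed.cj_of_mem hm]
      have hle : R'.map (MulAut.conj h).toMonoidHom ≤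
          (S : Subgroup G) ⊓ Subgroup.normalizer (U' : Set G) := by
        rintro _ ⟨r, hr, rfl⟩
        exact ⟨hh r hr, hconj r (hR'.le hr)⟩
      have h1 := hbig U' hU'S ⟨x, hxU, hxh⟩ (by
        refine lt_of_lt_of_le ?_ (Subgroup.card_le_of_le hle)
        rw [card_map_conj]
        exact Set.ncard_lt_ncard hlt (Set.toFinite _)) _ (hconj n hn)
      calc n * x * n⁻¹ = h⁻¹ * ((h * n * h⁻¹) * (h * x * h⁻¹) * (h * n * h⁻¹)⁻¹) * h := by group
        _ = h⁻¹ * x * h := by rw [hxh, h1]
        _ = h⁻¹ * (h * x * h⁻¹) * h := by rw [hxh]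
        _ = x := by group

/-- Glauberman's theorem on weakly closed central elements. -/
theorem good (p : ℕ) [Fact p.Prime] (G : Type u) [Group G] [Finite G] : Good p G := by
  induction hn : Nat.card G using Nat.strong_induction_on generalizing G with
  | _ n IH =>
  subst hn
  have hsub : ∀ H : Subgroup G, H ≠ ⊤ → Good p ↥H := fun H hH => IH (Nat.card H) (by
    refine lt_of_le_of_ne (Subgroup.card_le_card_group H) fun h => hH ?_
    exact Subgroup.eq_top_of_card_eq H h) ↥H rfl
  intro S x hx hc g hg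
  have hch : TameChain.Chain S ({x} : Set G) g⁻¹ :=
    TameChain.exists_chain S (Set.singleton_subset_iff.2 hx.1) (by
      rintro _ ⟨a, rfl, rfl⟩
      show g⁻¹⁻¹ * a * g⁻¹ ∈ (S : Subgroup G)
      rw [inv_inv]
      exact hg)
  have := fix_of_chain S hx (m := 0) (fun U hU hxU _ => fixed_normalizer hsub S hx hc _ U hU hxU rfl) hch
    rfl (Nat.zero_le _)
  simpa using this

end Cfsg.Agent.WCCenter
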